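import Cfsg.Agent.Helper17.M11Q1TC.Lemmas

set_option autoImplicit false
set_option linter.all false

noncomputable section

namespace Cfsg.Agent.Helper17.M11Q1TC

theorem F1 : act 0 n0 = n0 := d6_0 B0 
theorem F2 : act 1 n0 = n0 := d7_0 B1 
theorem F3 : act 2 n0 = n0 := d8_0 B2 
def n1 : Q := act 3 n0
theorem D1 : act 3 n0 = n1 := rfl
theorem F4 : act 0 n1 = n1 := d2_1 D1 (iv D1) F1
theorem F5 : act 1 n1 = n1 := d4_1 D1 (iv D1) F2
def n2 : Q := act 2 n1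
theorem D2 : act 2 n1 = n2 := rfl
theorem F6 : act 0 n2 = n2 := d1_1 D2 (iv D2) F4
theorem F7 : act 3 n2 = n2 := d5_2 D1 D2 (iv D2) (iv D1) F3
def n3 : Q := act 1 n2
theorem D3 : act 1 n2 = n3 := rfl
theorem F8 : act 2 n3 = n3 := d3_2 D2 D3 (iv D3) (iv D2) F5
theorem F9 : act 3 n3 = n3 := d4_2 F7 D3 (iv D3)
def n4 : Q := act 0 n3
theorem D4 : act 0 n3 = n4 := rfl
theorem F10 : act 1 n4 = n4 := d0_2 D3 D4 (iv D4) (iv D3) F6
theorem F11 : act 2 n4 = n4 := d1_2 F8 D4 (iv D4)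
theorem F12 : act 3 n4 = n4 := d2_2 F9 D4 (iv D4)

end Cfsg.Agent.Helper17.M11Q1TC
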