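import Cfsg.Agent.Helper17.M11Q1TC.Final

set_option autoImplicit false
set_option linter.all false
set_option maxRecDepth 100000

noncomputable section

namespace Cfsg.Agent.Helper17.M11Q1TC

theorem N1 : nd 1 = n1 := ndS (p := 0) (l := 3) rfl N0 D1
theorem N2 : nd 2 = n2 := ndS (p := 1) (l := 2) rfl N1 D2
theorem N3 : nd 3 = n3 := ndS (p := 2) (l := 1) rfl N2 D3
theorem N4 : nd 4 = n4 := ndS (p := 3) (l := 0) rfl N3 D4
theorem Q1 : ∀ i, i < 1 → P i := stepQ 0 Q0 (allL N0 (tt N0 F1) (tt N0 F2) (tt N0 F3) (tt N1 D1))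
theorem Q2 : ∀ i, i < 2 → P i := stepQ 1 Q1 (allL N1 (tt N1 F4) (tt N1 F5) (tt N2 D2) (tt N0 (iv D1)))
theorem Q3 : ∀ i, i < 3 → P i := stepQ 2 Q2 (allL N2 (tt N2 F6) (tt N3 D3) (tt N1 (iv D2)) (tt N2 F7))
theorem Q4 : ∀ i, i < 4 → P i := stepQ 3 Q3 (allL N3 (tt N4 D4) (tt N2 (iv D3)) (tt N3 F8) (tt N3 F9))
theorem Q5 : ∀ i, i < 5 → P i := stepQ 4 Q4 (allL N4 (tt N3 (iv D4)) (tt N4 F10) (tt N4 F11) (tt N4 F12))

theorem closedN : ∀ i, i < N → P i := Q5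

end Cfsg.Agent.Helper17.M11Q1TC
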